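import Groth.Agent.H9Misc.SectCmp.Naturality

/-! Comparison maps: restriction and connecting maps, surjectivity. -/

universe u

set_option backward.isDefEq.respectTransparency false
set_option backward.isDefEq.respectTransparency.types false
set_option linter.style.haveILetI false

open CategoryTheory CategoryTheory.Limits AlgebraicGeometry AlgebraicGeometry.Scheme.Modules TopologicalSpace Opposite
  CategoryTheory.Abelian

namespace Groth.Agent.H9Misc.SectCmp

set_option maxHeartbeats 600000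

open Groth.Agent.QCoh

variable {X Y : Scheme.{u}}

section Res

variable {U W : X.Opens} (h : W ≤ U)

theorem exists_preimage_of_isIso {Z : Scheme.{u}} {A B A' B' : Z.Modules} (g : A ⟶ B) (g' : A' ⟶ B')
    (i : A ⟶ A') (j : B ⟶ B') [IsIso i] [IsIso j] (h : i ≫ g' = g ≫ j) (x : Coh.HH Z B 0) (w : Coh.HH Z A' 0)
    (e : CohPull.mapH j 0 x = CohPull.mapH g' 0 w) : ∃ z, CohPull.mapH g 0 z = x := by
  have hc : ∀ {K L M : Z.Modules} (a : K ⟶ L) (b : L ⟶ M) (v : Coh.HH Z K 0),
      CohPull.mapH b 0 (CohPull.mapH a 0 v) = CohPull.mapH (a ≫ b) 0 v := fun a b v => by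
    refine (Sheaf.H.map_comp_apply _ _ _).symm.trans ?_
    exact congrArg (fun t => Sheaf.H.map t 0 v) (Functor.map_comp _ a b).symm
  refine ⟨CohPull.mapH (inv i) 0 w, ?_⟩
  have := congrArg (CohPull.mapH (inv j) 0) e
  rw [hc, hc, IsIso.hom_inv_id] at this
  refine (hc _ _ _).trans (Eq.trans ?_ (this.symm.trans ?_))
  · exact congrArg (fun t => CohPull.mapH t 0 w) ((IsIso.inv_comp_eq i).2 (by
      rw [reassoc_of% h, IsIso.hom_inv_id, Category.comp_id]))
  · show Sheaf.H.map ((SheafOfModules.toSheaf Z.ringCatSheaf).map (𝟙 B)) 0 x = x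
    rw [CategoryTheory.Functor.map_id]
    exact Sheaf.H.map_id_apply x

theorem resLE_natural {F G : X.Modules} (ψ : F ⟶ G) (p : ℕ) (x : Coh.HHon X F U p) :
    CohPull.resLE G h p (CohPull.mapH ((restrictFunctor U.ι).map ψ) p x) =
      CohPull.mapH ((restrictFunctor W.ι).map ψ) p (CohPull.resLE F h p x) := by
  rw [resLE_eq, resLE_eq]
  refine (congrArg (Sheaf.H.map (phi h G) p) (pullAb_map _ _ p x)).trans ?_
  refine (Sheaf.H.map_comp_apply _ _ _).symm.trans ?_
  refine Eq.trans ?_ (Sheaf.H.map_comp_apply _ _ _)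
  exact congrArg (fun z => Sheaf.H.map z p _) (phi_natural h ψ)

theorem resLE_extδ {S : ShortComplex X.Modules} (hU : (S.map (CohCmp.toAbOn X U)).ShortExact)
    (hW : (S.map (CohCmp.toAbOn X W)).ShortExact) (p : ℕ) (x : Coh.HHon X S.X₃ U p) :
    CohPull.resLE S.X₁ h (p + 1) (CohCmp.extδ hU p x) = CohCmp.extδ hW p (CohPull.resLE S.X₃ h p x) := by
  rw [resLE_eq, resLE_eq]
  let G := CohPull.inv (inclLE h).base
  let φ : (S.map (CohCmp.toAbOn X U)).map G ⟶ S.map (CohCmp.toAbOn X W) :=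
    { τ₁ := phi h S.X₁
      τ₂ := phi h S.X₂
      τ₃ := phi h S.X₃
      comm₁₂ := (phi_natural h S.f).symm
      comm₂₃ := (phi_natural h S.g).symm }
  refine Eq.trans ?_ (QCoh.Ab.connecting_naturality (hU.map_of_exact G) hW φ p
    (CohPull.pullAb (inclLE h).base _ p x))
  refine congrArg (Sheaf.H.map (phi h S.X₁) (p + 1)) ?_
  exact pullAb_connecting (inclLE h).base hU p x

end Res

theorem resLE_extδ_eq_zero {U W : X.Opens} (h : W ≤ U) {S : ShortComplex X.Modules}
    (hU : (S.map (CohCmp.toAbOn X U)).ShortExact) (hW : (S.map (CohCmp.toAbOn X W)).ShortExact)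
    (x : Coh.HHon X S.X₃ U 0) (z : Coh.HHon X S.X₂ W 0)
    (e : CohPull.mapH ((restrictFunctor W.ι).map S.g) 0 z = CohPull.resLE S.X₃ h 0 x) :
    CohPull.resLE S.X₁ h 1 (CohCmp.extδ hU 0 x) = 0 := by
  rw [resLE_extδ h hU hW 0 x, ← e]
  exact extδ_mapH_eq_zero hW 0 z

/-! ### The comparison -/

variable (f : X ⟶ Y) [HasInjectiveResolutions X.Modules] {Δ : RDer.DerivedLES (pushforward f)}
  (E : CohCmp.SectCmp f Δ)

theorem app_exact {T : ShortComplex Y.Modules} (hT : T.Exact) (V : Y.Opens) (t : Γ(T.X₂, V))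
    (ht : T.g.app V t = 0) (y : Y) (hy : y ∈ V) :
    ∃ (W : Y.Opens) (hWV : W ≤ V), y ∈ W ∧ ∃ a : Γ(T.X₁, W), T.f.app W a = rs T.X₂ hWV t := by
  haveI : Mono (cokernel.desc T.f T.g T.zero) := hT.mono_cokernelDesc
  have h0 : (cokernel.π T.f).app V t = 0 := app_injective (cokernel.desc T.f T.g T.zero) V (by
    rw [map_zero, ← ht]
    exact congr(($(cokernel.π_desc T.f T.g T.zero)).app V t))
  exact exists_local_range T.f t h0 hy

/-- Degree zero. -/
theorem bijective_zero (V : Y.Opens) (F : X.Modules) : Function.Bijective (E.ε V F 0) := by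
  haveI := preservesFiniteLimits_push f
  have e : (fun s : Γ(F, f ⁻¹ᵁ V) => ((pushforward f).toRightDerivedZero.app F).app V s) =
      E.ε V F 0 ∘ CohPull.sectH0 F (f ⁻¹ᵁ V) := funext fun s => (E.zero V F s).symm
  have hb : Function.Bijective (E.ε V F 0 ∘ CohPull.sectH0 F (f ⁻¹ᵁ V)) := by
    rw [← e]
    exact ConcreteCategory.bijective_of_isIso (((pushforward f).toRightDerivedZero.app F).app V)
  exact (Function.Bijective.of_comp_iff _ (CohPull.sectH0 F (f ⁻¹ᵁ V)).bijective).1 hb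

/-- The injective presentation used for dimension shifting. -/
noncomputable abbrev ses [EnoughInjectives X.Modules] (F : X.Modules) : ShortComplex X.Modules :=
  ShortComplex.mk (Injective.ι F) (cokernel.π (Injective.ι F)) (cokernel.condition _)

theorem ses_shortExact [EnoughInjectives X.Modules] (F : X.Modules) : (ses F).ShortExact :=
  { exact := ShortComplex.exact_of_g_is_cokernel _ (cokernelIsCokernel _) }

theorem exists_extδ [EnoughInjectives X.Modules] (F : X.Modules) (V : Y.Opens) (p : ℕ)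
    (x : Coh.HHon X F (f ⁻¹ᵁ V) (p + 1)) :
    ∃ x', CohCmp.extδ (toAbOn_shortExact (f ⁻¹ᵁ V) (ses_shortExact F)) p x' = x :=
  QCoh.Ab.connecting_surjective (toAbOn_shortExact (f ⁻¹ᵁ V) (ses_shortExact F)) p
    (subsingleton_HHon_of_flasque (f ⁻¹ᵁ V) (isFlasqueMod_of_injective _) p) x

theorem app_δ_rs {S : ShortComplex X.Modules} (hS : S.ShortExact) (p : ℕ) {V W : Y.Opens} (hWV : W ≤ V)
    (t : Γ((Coh.Rpush f p).obj S.X₃, V)) :
    (Δ.δ S hS p (p + 1) rfl).app W (rs _ hWV t) = rs _ hWV ((Δ.δ S hS p (p + 1) rfl).app V t) :=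
  app_rs _ _ _

include E in
/-- The comparison is locally surjective. -/
theorem locally_surjective (F : X.Modules) (p : ℕ) (V : Y.Opens) (t : Γ((Coh.Rpush f p).obj F, V)) (y : Y)
    (hy : y ∈ V) :
    ∃ (W : Y.Opens) (hWV : W ≤ V), y ∈ W ∧ ∃ x, E.ε W F p x = rs _ hWV t := by
  haveI := SpObjSS.enoughInjectives_of_hasInjectiveResolutions (C := X.Modules)
  induction p generalizing F V with
  | zero =>
    obtain ⟨x, hx⟩ := (bijective_zero f E V F).2 t
    exact ⟨V, le_rfl, hy, x, hx.trans (rs_self _ _).symm⟩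
  | succ p ih =>
    haveI : Epi (Δ.δ (ses F) (ses_shortExact F) p (p + 1) rfl) :=
      (Δ.exact₁ (ses F) (ses_shortExact F) p (p + 1) rfl).epi_f
        (((pushforward f).isZero_rightDerived_obj_injective_succ p (Injective.under F)).eq_of_tgt _ _)
    obtain ⟨W₁, h₁, hy₁, t', ht'⟩ := exists_local_preimage (Δ.δ (ses F) (ses_shortExact F) p (p + 1) rfl) t hy
    obtain ⟨W, hW, hyW, x', hx'⟩ := ih _ W₁ t' hy₁
    refine ⟨W, hW.trans h₁, hyW, CohCmp.extδ (toAbOn_shortExact _ (ses_shortExact F)) p x', ?_⟩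
    refine (E.delta W (ses F) (ses_shortExact F) _ p x').trans ?_
    rw [hx', app_δ_rs f (ses_shortExact F) p hW t', ht', rs_rs]

include E in
/-- Over an affine base the comparison is bijective on the Godement cokernels. -/
theorem bijective_godQ [QuasiCompact f] [QuasiSeparated f] [IsAffine Y] {M : X.Modules} (hM : Coh.IsQCoh M)
    (p : ℕ) : ∀ n, Function.Bijective (E.ε ⊤ (godQ M n) (p + 1)) := by
  haveI := SpObjSS.enoughInjectives_of_hasInjectiveResolutions (C := X.Modules)
  haveI := preservesFiniteLimits_push f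
  induction p with
  | zero =>
    intro n
    let α := (pushforward f).map (godπ M n)
    have hq := locRange_rpushModel f hM n
    have hV := isAffineOpen_top Y
    let hS := godSES_shortExact M n
    let hA := toAbOn_shortExact (f ⁻¹ᵁ (⊤ : Y.Opens)) hS
    let δ := Δ.δ (godSES M n) hS 0 1 rfl
    let τ := (pushforward f).toRightDerivedZero
    have hw : α ≫ τ.app (godQ M (n + 1)) ≫ δ = 0 := by
      rw [← Category.assoc, τ.naturality, Category.assoc]
      exact (congrArg (τ.app _ ≫ ·) (Δ.comp_δ (godSES M n) hS 0 1 rfl)).trans comp_zero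
    haveI : Epi δ := (Δ.exact₁ (godSES M n) hS 0 1 rfl).epi_f
      ((isZero_Rpush_of_flasque f _ (isFlasqueMod_God _) 0).eq_of_tgt _ _)
    have hex : (ShortComplex.mk α (τ.app (godQ M (n + 1)) ≫ δ) hw).Exact := by
      refine (ShortComplex.exact_iff_of_iso (ShortComplex.isoMk (asIso (τ.app _)) (asIso (τ.app _)) (Iso.refl _)
        ?_ ?_ : ShortComplex.mk α (τ.app (godQ M (n + 1)) ≫ δ) hw ≅
          ShortComplex.mk _ _ (Δ.comp_δ (godSES M n) hS 0 1 rfl))).2 (Δ.exact₃ (godSES M n) hS 0 1 rfl)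
      · exact (τ.naturality (godπ M n)).symm
      · exact (Category.comp_id _).symm
    haveI : Epi (τ.app (godQ M (n + 1)) ≫ δ) := inferInstance
    let c : cokernel α ≅ (Coh.Rpush f 1).obj (godQ M n) :=
      (cokernelIsCokernel α).coconePointUniqueUpToIso hex.gIsCokernel
    have hc : cokernel.π α ≫ c.hom = τ.app (godQ M (n + 1)) ≫ δ :=
      IsColimit.comp_coconePointUniqueUpToIso_hom (cokernelIsCokernel α) hex.gIsCokernel WalkingParallelPair.one
    have key : ∀ s : Γ(godQ M (n + 1), f ⁻¹ᵁ (⊤ : Y.Opens)),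
        E.ε ⊤ (godQ M n) 1 (CohCmp.extδ hA 0 (CohPull.sectH0 _ _ s)) = c.hom.app ⊤ ((cokernel.π α).app ⊤ s) :=
      fun s => ((E.delta ⊤ (godSES M n) hS hA 0 _).trans
        (congrArg (δ.app ⊤) (E.zero ⊤ (godQ M (n + 1)) s))).trans congr(($hc).app ⊤ s).symm
    constructor
    · rw [injective_iff_map_eq_zero]
      intro x hx
      obtain ⟨x', rfl⟩ := QCoh.Ab.connecting_surjective hA 0
        (subsingleton_HHon_of_flasque _ (isFlasqueMod_God _) 0) x
      obtain ⟨s, rfl⟩ := exists_sectH0 x'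
      have h0 : (cokernel.π α).app ⊤ s = 0 :=
        app_injective c.hom ⊤ (((key s).symm.trans hx).trans (map_zero _).symm)
      obtain ⟨b, hb⟩ := hq.mem_range hV s h0
      have hb' : (godπ M n).app (f ⁻¹ᵁ (⊤ : Y.Opens)) b = s := hb
      show CohCmp.extδ hA 0 (CohPull.sectH0 _ _ s) = 0
      rw [← hb']
      exact (congrArg (CohCmp.extδ hA 0) (sectH0_natural (godπ M n) _ b).symm).trans
        (extδ_mapH_eq_zero hA 0 (CohPull.sectH0 _ _ b))
    · intro t
      obtain ⟨w, hw'⟩ := (ConcreteCategory.bijective_of_isIso (c.hom.app ⊤)).2 t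
      obtain ⟨s, hs⟩ := hq.surjective hV w
      exact ⟨_, (key s).trans (by rw [hs]; exact hw')⟩
  | succ p ih =>
    intro n
    let hS := godSES_shortExact M n
    let hA := toAbOn_shortExact (f ⁻¹ᵁ (⊤ : Y.Opens)) hS
    let δ := Δ.δ (godSES M n) hS (p + 1) (p + 1 + 1) rfl
    haveI : Epi δ := (Δ.exact₁ (godSES M n) hS (p + 1) (p + 1 + 1) rfl).epi_f
      ((isZero_Rpush_of_flasque f _ (isFlasqueMod_God _) (p + 1)).eq_of_tgt _ _)
    haveI : Mono δ := (Δ.exact₃ (godSES M n) hS (p + 1) (p + 1 + 1) rfl).mono_g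
      ((isZero_Rpush_of_flasque f _ (isFlasqueMod_God _) p).eq_of_src _ _)
    haveI := isIso_of_mono_of_epi δ
    have hb : Function.Bijective (CohCmp.extδ hA (p + 1)) :=
      QCoh.Ab.connecting_bijective hA (p + 1) (subsingleton_HHon_of_flasque _ (isFlasqueMod_God _) p)
        (subsingleton_HHon_of_flasque _ (isFlasqueMod_God _) (p + 1))
    refine (Function.Bijective.of_comp_iff _ hb).1 ?_
    have e : E.ε ⊤ (godQ M n) (p + 1 + 1) ∘ CohCmp.extδ hA (p + 1) =
        (δ.app ⊤) ∘ E.ε ⊤ (godQ M (n + 1)) (p + 1) :=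
      funext fun x => E.delta ⊤ (godSES M n) hS hA (p + 1) x
    exact e ▸ (ConcreteCategory.bijective_of_isIso (δ.app ⊤)).comp (ih (n + 1))

include E in
/-- Over an affine base the comparison is bijective. -/
theorem bijective_top [QuasiCompact f] [QuasiSeparated f] [IsAffine Y] {M : X.Modules} (hM : Coh.IsQCoh M) :
    ∀ p : ℕ, Function.Bijective (E.ε ⊤ M p)
  | 0 => bijective_zero f E ⊤ M
  | p + 1 => bijective_godQ f E hM p 0

end Groth.Agent.H9Misc.SectCmp
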