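import Groth.Agent.H9Misc.SectCmp.LocallyZero

/-! Comparison maps: local injectivity in degree one. -/

universe u

set_option backward.isDefEq.respectTransparency false
set_option backward.isDefEq.respectTransparency.types false
set_option linter.style.haveILetI false

open CategoryTheory CategoryTheory.Limits AlgebraicGeometry AlgebraicGeometry.Scheme.Modules TopologicalSpace Opposite
  CategoryTheory.Abelian

namespace Groth.Agent.H9Misc.SectCmp

set_option maxHeartbeats 600000

open Groth.Agent.QCoh

variable {X Y : Scheme.{u}}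

variable (f : X ⟶ Y) [HasInjectiveResolutions X.Modules] {Δ : RDer.DerivedLES (pushforward f)}
  (E : CohCmp.SectCmp f Δ)

include E in
/-- The step in degree one. -/
theorem locally_zero_one [EnoughInjectives X.Modules] : LocallyZero f E 1 := by
  intro F V x hx y hy
  obtain ⟨x', rfl⟩ := exists_extδ f F V 0 x
  have hδ : (Δ.δ (ses F) (ses_shortExact F) 0 1 rfl).app V (E.ε V _ 0 x') = 0 :=
    (E.delta V (ses F) (ses_shortExact F) _ 0 x').symm.trans hx
  haveI := preservesFiniteLimits_push f
  obtain ⟨W, hWV, hyW, a, ha⟩ :=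
    app_exact (Δ.exact₃ (ses F) (ses_shortExact F) 0 1 rfl) V (E.ε V _ 0 x') hδ y hy
  refine ⟨W, hWV, hyW, ?_⟩
  obtain ⟨s, rfl⟩ := exists_sectH0 x'
  let I : X.Modules := Injective.under F
  let C : X.Modules := cokernel (Injective.ι F)
  let g : I ⟶ C := cokernel.π (Injective.ι F)
  obtain ⟨b, hb⟩ : ∃ b : Γ(I, f ⁻¹ᵁ W), ((pushforward f).toRightDerivedZero.app I).app W b = a :=
    (ConcreteCategory.bijective_of_isIso (((pushforward f).toRightDerivedZero.app I).app W)).2 a
  let O : X.Opens := f ⁻¹ᵁ V
  let P : X.Opens := f ⁻¹ᵁ W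
  have hP : P ≤ O := f.preimage_mono hWV
  have hb' : g.app P b = rs C hP s := by
    refine (ConcreteCategory.bijective_of_isIso (((pushforward f).toRightDerivedZero.app C).app W)).1 ?_
    refine (congr(($((pushforward f).toRightDerivedZero.naturality g)).app W b) : _).trans ?_
    refine (congrArg (((Coh.Rpush f 0).map g).app W) hb).trans ?_
    refine (ha.trans (congrArg (rs _ hWV) (E.zero V C s))).trans ?_
    exact (map_app_comm ((pushforward f).toRightDerivedZero.app C) (homOfLE hWV) s).symm
  -- pass to the extension by the direct image from `P`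
  let G := restrictFunctor P.ι ⋙ Scheme.Modules.pushforward P.ι
  let η : 𝟭 X.Modules ⟶ G := (restrictAdjunction P.ι).unit
  let O' : X.Opens := P.ι ''ᵁ (P.ι ⁻¹ᵁ O)
  have hO' : O' ≤ P := (P.ι.image_mono le_top).trans P.ι_image_top.le
  have hPO : P ≤ O' := fun z hz => ⟨⟨z, hz⟩, hP hz, rfl⟩
  let y' : Γ(G.obj I, O) := rs I hO' b
  have hy' : (η.app C).app O s = (G.map g).app O y' := by
    show (((restrictAdjunction P.ι).unit.app C)).app O s = g.app O' (rs I hO' b)
    rw [restrictAdjunction_unit_app_app, app_rs, hb', rs_rs]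
    rfl
  have hiso : ∀ M : X.Modules, IsIso ((restrictFunctor P.ι).map (η.app M)) := fun M => by
    have : (restrictFunctor P.ι).map (η.app M) ≫ (restrictAdjunction P.ι).counit.app _ = 𝟙 _ :=
      (restrictAdjunction P.ι).left_triangle_components M
    haveI : IsIso ((restrictFunctor P.ι).map (η.app M) ≫ (restrictAdjunction P.ι).counit.app _) := by
      rw [this]; infer_instance
    exact IsIso.of_isIso_comp_right _ ((restrictAdjunction P.ι).counit.app _)
  let x₀ := CohPull.resLE C hP 0 (CohPull.sectH0 C O s)
  have e1 : CohPull.mapH ((restrictFunctor P.ι).map (η.app C)) 0 x₀ =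
      CohPull.mapH ((restrictFunctor P.ι).map (G.map g)) 0 (CohPull.resLE (G.obj I) hP 0 (CohPull.sectH0 _ O y')) := by
    refine (resLE_natural hP (η.app C) 0 _).symm.trans ?_
    refine (congrArg (CohPull.resLE (G.obj C) hP 0) ((sectH0_natural (η.app C) O s).trans
      ((congrArg (CohPull.sectH0 (G.obj C) O) hy').trans (sectH0_natural (G.map g) O y').symm))).trans ?_
    exact resLE_natural hP (G.map g) 0 _
  haveI := hiso I
  haveI := hiso C
  obtain ⟨z, e3⟩ := exists_preimage_of_isIso ((restrictFunctor P.ι).map g) ((restrictFunctor P.ι).map (G.map g))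
    ((restrictFunctor P.ι).map (η.app I)) ((restrictFunctor P.ι).map (η.app C))
    (by rw [← Functor.map_comp, ← Functor.map_comp]; exact congrArg _ (η.naturality g).symm) x₀ _ e1
  exact resLE_extδ_eq_zero (S := ses F) hP (toAbOn_shortExact O (ses_shortExact F))
    (toAbOn_shortExact P (ses_shortExact F)) (CohPull.sectH0 C O s) z e3

end Groth.Agent.H9Misc.SectCmp
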