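import Groth.Agent.H9Misc.SectCmp.Connecting

/-! Comparison maps: local injectivity, degree zero and the step. -/

universe u

set_option backward.isDefEq.respectTransparency false
set_option backward.isDefEq.respectTransparency.types false
set_option linter.style.haveILetI false

open CategoryTheory CategoryTheory.Limits AlgebraicGeometry AlgebraicGeometry.Scheme.Modules TopologicalSpace Opposite
  CategoryTheory.Abelian

namespace Groth.Agent.H9Misc.SectCmp

set_option maxHeartbeats 600000

open Groth.Agent.QCoh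

variable {X Y : Scheme.{u}}

variable (f : X ⟶ Y) [HasInjectiveResolutions X.Modules] {Δ : RDer.DerivedLES (pushforward f)}
  (E : CohCmp.SectCmp f Δ)

/-- Local injectivity in degree `p`. -/
def LocallyZero (p : ℕ) : Prop :=
  ∀ (F : X.Modules) (V : Y.Opens) (x : Coh.HHon X F (f ⁻¹ᵁ V) p), E.ε V F p x = 0 → ∀ y ∈ V,
    ∃ (W : Y.Opens) (hWV : W ≤ V), y ∈ W ∧ CohPull.resLE F (f.preimage_mono hWV) p x = 0

include E in
/-- Local injectivity in degree zero. -/
theorem locally_zero_zero (F : X.Modules) (V : Y.Opens) (x : Coh.HHon X F (f ⁻¹ᵁ V) 0) (hx : E.ε V F 0 x = 0) :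
    CohPull.resLE F (f.preimage_mono (le_refl V)) 0 x = 0 :=
  (congrArg (CohPull.resLE F (f.preimage_mono (le_refl V)) 0)
    ((bijective_zero f E V F).1 (hx.trans (map_zero _).symm))).trans (map_zero _)

include E in
/-- The step, above degree one. -/
theorem locally_zero_step [EnoughInjectives X.Modules] (p : ℕ) (ih : LocallyZero f E (p + 1)) :
    LocallyZero f E (p + 1 + 1) := by
  intro F V x hx y hy
  obtain ⟨x', rfl⟩ := exists_extδ f F V (p + 1) x
  have hδ : (Δ.δ (ses F) (ses_shortExact F) (p + 1) (p + 1 + 1) rfl).app V (E.ε V _ (p + 1) x') = 0 :=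
    (E.delta V (ses F) (ses_shortExact F) _ (p + 1) x').symm.trans hx
  haveI : Mono (Δ.δ (ses F) (ses_shortExact F) (p + 1) (p + 1 + 1) rfl) :=
    (Δ.exact₃ (ses F) (ses_shortExact F) (p + 1) (p + 1 + 1) rfl).mono_g
      (((pushforward f).isZero_rightDerived_obj_injective_succ p (Injective.under F)).eq_of_src _ _)
  have h0 : E.ε V _ (p + 1) x' = 0 :=
    app_injective (Δ.δ (ses F) (ses_shortExact F) (p + 1) (p + 1 + 1) rfl) V (hδ.trans (map_zero _).symm)
  obtain ⟨W, hWV, hyW, hW⟩ := ih _ V x' h0 y hy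
  exact ⟨W, hWV, hyW, ((resLE_extδ (f.preimage_mono hWV) _ (toAbOn_shortExact _ (ses_shortExact F)) _ x').trans
    (congrArg _ hW)).trans (map_zero _)⟩

end Groth.Agent.H9Misc.SectCmp
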