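import Groth.Prelude.Def_CohCmp
import Groth.Agent.QCoh.RpushGod
import Groth.Agent.QCoh.OpenSub
import Groth.Agent.QCoh.HHExact
import Groth.Agent.QCoh.Ab.Push

/-! Comparison maps: naturality of the restriction of classes. -/

universe u

set_option backward.isDefEq.respectTransparency false
set_option backward.isDefEq.respectTransparency.types false
set_option linter.style.haveILetI false

open CategoryTheory CategoryTheory.Limits AlgebraicGeometry AlgebraicGeometry.Scheme.Modules TopologicalSpace Opposite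
  CategoryTheory.Abelian

namespace Groth.Agent.H9Misc.SectCmp

set_option maxHeartbeats 600000

open Groth.Agent.QCoh

variable {X Y : Scheme.{u}}

theorem toAbOn_shortExact (U : X.Opens) {S : ShortComplex X.Modules} (hS : S.ShortExact) :
    (S.map (CohCmp.toAbOn X U)).ShortExact :=
  QCoh.Ab.restr_shortExact U.ι.isOpenEmbedding (toAb_shortExact hS)

theorem subsingleton_HHon_of_flasque (U : X.Opens) {M : X.Modules} (hM : IsFlasqueMod M) (n : ℕ) :
    Subsingleton (Coh.HHon X M U (n + 1)) :=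
  subsingleton_HH_restrict U.ι M n
    (haveI := hM; SiteBase.subsingleton_HU_of_isFlasque (X := X.toPresheafedSpace.carrier) (abSheaf M) _ n)

theorem exists_sectH0 {F : X.Modules} {U : X.Opens} (x : Coh.HHon X F U 0) :
    ∃ s, CohPull.sectH0 F U s = x :=
  ⟨(CohPull.sectH0 F U).symm x, (CohPull.sectH0 F U).apply_symm_apply x⟩

theorem sectH0_natural {F G : X.Modules} (ψ : F ⟶ G) (U : X.Opens) (s : Γ(F, U)) :
    CohPull.mapH ((restrictFunctor U.ι).map ψ) 0 (CohPull.sectH0 F U s) = CohPull.sectH0 G U (ψ.app U s) := by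
  refine (Sheaf.H.equiv₀_symm_naturality _ _ _).trans ?_
  refine congrArg (Sheaf.H.equiv₀ (Coh.toAb (G.restrict U.ι)) (isTerminalTop : IsTerminal (⊤ : U.toScheme.Opens))).symm ?_
  exact map_app_comm ψ (eqToHom U.ι_image_top) s

theorem extδ_comp {U : Scheme.{u}} {S : ShortComplex (CohTop.Ab U)} (hS : S.ShortExact) (p : ℕ)
    (x : Sheaf.H S.X₃ p) : CohCmp.extδ hS p x = QCoh.Ab.connecting hS p x := rfl

theorem extδ_mapH_eq_zero {U : X.Opens} {S : ShortComplex X.Modules} (hA : (S.map (CohCmp.toAbOn X U)).ShortExact)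
    (p : ℕ) (y : Coh.HHon X S.X₂ U p) :
    CohCmp.extδ hA p (CohPull.mapH ((restrictFunctor U.ι).map S.g) p y) = 0 :=
  (QCoh.Ab.connecting_eq_zero_iff hA p _).2 ⟨y, rfl⟩

/-! ### Restriction maps and connecting maps -/

section Res

variable {U W : X.Opens} (h : W ≤ U)

/-- The morphism of schemes `W ⟶ U`. -/
noncomputable abbrev inclLE : W.toScheme ⟶ U.toScheme :=
  (𝟙 X : X ⟶ X).resLE U W (by rwa [Scheme.Hom.id_preimage])

/-- The identification of restrictions, as a natural transformation. -/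
noncomputable def nu :
    restrictFunctor U.ι ⋙ Scheme.Modules.pullback (inclLE h) ⟶ restrictFunctor W.ι :=
  Functor.whiskerRight (restrictFunctorIsoPullback U.ι).hom _ ≫
    (pullbackComp (inclLE h) U.ι).hom ≫
    (pullbackCongr (Scheme.Hom.resLE_comp_ι (𝟙 X) (by rwa [Scheme.Hom.id_preimage]))).hom ≫
    (pullbackComp W.ι (𝟙 X)).inv ≫
    Functor.whiskerLeft (Scheme.Modules.pullback (𝟙 X)) (restrictFunctorIsoPullback W.ι).inv ≫
    Functor.whiskerRight (pullbackId X).hom (restrictFunctor W.ι)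

theorem nu_app (F : X.Modules) : (nu h).app F =
    (CohPull.pullOnIso (𝟙 X) U W (by rwa [Scheme.Hom.id_preimage]) F).hom ≫
      (restrictFunctor W.ι).map ((pullbackId X).hom.app F) := by
  simp only [nu, CohPull.pullOnIso, NatTrans.comp_app, Functor.whiskerRight_app, Functor.whiskerLeft_app,
    Iso.trans_hom, Functor.mapIso_hom, Iso.app_hom, Iso.symm_hom, Iso.app_inv, Category.assoc]

/-- The morphism of abelian sheaves through which classes are restricted. -/
noncomputable def phi (F : X.Modules) :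
    (CohPull.inv (inclLE h).base).obj ((CohCmp.toAbOn X U).obj F) ⟶ (CohCmp.toAbOn X W).obj F :=
  CohPull.theta (inclLE h) (F.restrict U.ι) ≫
    (SheafOfModules.toSheaf W.toScheme.ringCatSheaf).map ((nu h).app F)

theorem resLE_eq (F : X.Modules) (p : ℕ) (x : Coh.HHon X F U p) :
    CohPull.resLE F h p x = Sheaf.H.map (phi h F) p (CohPull.pullAb (inclLE h).base (Coh.toAb (F.restrict U.ι)) p x) := by
  unfold phi
  rw [nu_app, Functor.map_comp, Sheaf.H.map_comp_apply, Sheaf.H.map_comp_apply]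
  rfl

theorem theta_natural {A B : Scheme.{u}} (g : A ⟶ B) {M N : B.Modules} (ψ : M ⟶ N) :
    (CohPull.inv g.base).map ((SheafOfModules.toSheaf B.ringCatSheaf).map ψ) ≫ CohPull.theta g N =
      CohPull.theta g M ≫ (SheafOfModules.toSheaf A.ringCatSheaf).map ((Scheme.Modules.pullback g).map ψ) := by
  unfold CohPull.theta
  rw [← Adjunction.homEquiv_naturality_left_symm, ← Adjunction.homEquiv_naturality_right_symm]
  refine congrArg _ ?_
  show (SheafOfModules.toSheaf B.ringCatSheaf).map ψ ≫ (SheafOfModules.toSheaf B.ringCatSheaf).map _ =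
    (SheafOfModules.toSheaf B.ringCatSheaf).map _ ≫
      (SheafOfModules.toSheaf B.ringCatSheaf).map ((pushforward g).map ((Scheme.Modules.pullback g).map ψ))
  rw [← Functor.map_comp, ← Functor.map_comp]
  exact congrArg _ ((pullbackPushforwardAdjunction g).unit.naturality ψ)

theorem phi_natural {F G : X.Modules} (ψ : F ⟶ G) :
    (CohPull.inv (inclLE h).base).map ((CohCmp.toAbOn X U).map ψ) ≫ phi h G =
      phi h F ≫ (CohCmp.toAbOn X W).map ψ := by
  refine ((reassoc_of% (theta_natural (inclLE h) ((restrictFunctor U.ι).map ψ))) _).trans ?_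
  unfold phi
  rw [Category.assoc]
  refine congrArg (CohPull.theta _ _ ≫ ·) ?_
  show _ = _ ≫ (SheafOfModules.toSheaf W.toScheme.ringCatSheaf).map ((restrictFunctor W.ι).map ψ)
  rw [← Functor.map_comp, ← Functor.map_comp]
  refine congrArg _ ?_
  exact (nu h).naturality ψ

theorem pullAb_map {A B : TopCat.{u}} (g : A ⟶ B) {M N : CohTop.Ab B} (ψ : M ⟶ N) (p : ℕ) (x : Sheaf.H M p) :
    CohPull.pullAb g N p (Sheaf.H.map ψ p x) = Sheaf.H.map ((CohPull.inv g).map ψ) p (CohPull.pullAb g M p x) := by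
  show (Ext.mk₀ (CohPull.oneTo g)).comp ((x.comp (Ext.mk₀ ψ) (add_zero p)).mapExactFunctor (CohPull.inv g)) (zero_add p) =
    ((Ext.mk₀ (CohPull.oneTo g)).comp (x.mapExactFunctor (CohPull.inv g)) (zero_add p)).comp
      (Ext.mk₀ ((CohPull.inv g).map ψ)) (add_zero p)
  rw [Ext.mapExactFunctor_comp, Ext.mapExactFunctor_mk₀, Ext.comp_assoc_of_third_deg_zero]

theorem pullAb_connecting {A B : TopCat.{u}} (g : A ⟶ B) {T : ShortComplex (CohTop.Ab B)} (hT : T.ShortExact)
    (p : ℕ) (x : CohTop.H T.X₃ p) :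
    CohPull.pullAb g T.X₁ (p + 1) (QCoh.Ab.connecting hT p x) =
      QCoh.Ab.connecting (hT.map_of_exact (CohPull.inv g)) p (CohPull.pullAb g T.X₃ p x) := by
  show (Ext.mk₀ (CohPull.oneTo g)).comp ((x.comp hT.extClass rfl).mapExactFunctor (CohPull.inv g)) (zero_add (p + 1)) =
    ((Ext.mk₀ (CohPull.oneTo g)).comp (x.mapExactFunctor (CohPull.inv g)) (zero_add p)).comp
      (hT.map_of_exact (CohPull.inv g)).extClass rfl
  rw [Ext.mapExactFunctor_comp, Ext.mapExactFunctor_extClass, Ext.comp_assoc _ _ _ (zero_add p) rfl (by omega)]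

end Res

end Groth.Agent.H9Misc.SectCmp
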